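import Cfsg.Agent.H488.RIM.Tool
import Cfsg.Agent.H620.RIM.Mult
import Cfsg.Agent.H835.Five
import Cfsg.Agent.KFacts.FiTT.AllPairs

/-!
# S4816: `Fi₂₂`, `p = 5` (helper488)

`C(u) = ⟨u⟩ × S₅`, `u` of order five; the transpositions of the `S₅` are transpositions of `Fi₂₂`, whose centralizers are
perfect, so the class of transpositions is good in every central extension.
-/

set_option autoImplicit false

namespace Cfsg.Agent.H488.RIM

open Cfsg Subgroup Cfsg.Agent.LThreeFi22 Cfsg.Agent.H836 Cfsg.Agent.H835 Cfsg.Agent.H835.Five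
open Cfsg.Agent.H665.RIM Cfsg.Agent.H620.RIM Cfsg.Agent.KFacts.FiTT

universe u

/-- over a perfect centralizer commutation lifts to central extensions -/
theorem comm_of_perfect {E S : Type*} [Group E] [Group S] {π : E →* S} (hπ : Function.Surjective π)
    (hc : π.ker ≤ center E) {g : E} (hp : Group.IsPerfect ↥(centralizer ({π g} : Set S))) {x : E}
    (hx : π x * π g = π g * π x) : x * g = g * x := by
  set D : Subgroup E := (centralizer ({π g} : Set S)).comap π with hD
  have hz : ∀ z ∈ π.ker, ∀ y : E, z * y = y * z := fun z hz y => (mem_center_iff.1 (hc hz) y).symm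
  have hk : ∀ y : D, (y : E)⁻¹ * g⁻¹ * y * g ∈ π.ker := by
    intro y
    have h1 : π y * π g = π g * π y := mem_centralizer_singleton_iff.1 (mem_comap.1 y.2)
    rw [MonoidHom.mem_ker, map_mul, map_mul, map_mul, map_inv, map_inv, mul_assoc, h1]
    group
  let ψ : D →* π.ker :=
    { toFun := fun y => ⟨(y : E)⁻¹ * g⁻¹ * y * g, hk y⟩
      map_one' := by
        apply Subtype.ext
        show (1 : E)⁻¹ * g⁻¹ * 1 * g = 1
        group
      map_mul' := by
        intro y w
        apply Subtype.ext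
        show ((y : E) * w)⁻¹ * g⁻¹ * (y * w) * g = ((y : E)⁻¹ * g⁻¹ * y * g) * ((w : E)⁻¹ * g⁻¹ * w * g)
        have h1 := hz _ (hk y) ((w : E)⁻¹)
        calc ((y : E) * w)⁻¹ * g⁻¹ * (y * w) * g = (w : E)⁻¹ * ((y : E)⁻¹ * g⁻¹ * y * g) * (g⁻¹ * w * g) := by group
          _ = ((y : E)⁻¹ * g⁻¹ * y * g) * ((w : E)⁻¹ * g⁻¹ * w * g) := by rw [← h1]; group }
  have hψ : commutator D ≤ ψ.ker := by
    rw [commutator_eq_closure, closure_le]
    rintro _ ⟨a, b, rfl⟩
    have h1 : ψ a * ψ b = ψ b * ψ a := Subtype.ext (hz _ (ψ a).2 _)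
    show ψ _ = 1
    rw [commutatorElement_def, map_mul, map_mul, map_mul, map_inv, map_inv, h1]
    group
  let r : D →* ↥(centralizer ({π g} : Set S)) :=
    { toFun := fun y => ⟨π y, y.2⟩
      map_one' := Subtype.ext (map_one π)
      map_mul' := fun y w => Subtype.ext (map_mul π _ _) }
  have hr : Function.Surjective r := by
    rintro ⟨y, hy⟩
    obtain ⟨w, rfl⟩ := hπ y
    exact ⟨⟨w, hy⟩, rfl⟩
  have h1 : (commutator D).map r = ⊤ := by
    rw [commutator_def, map_commutator, ← MonoidHom.range_eq_map, MonoidHom.range_eq_top.2 hr]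
    exact hp.commutator_eq_top
  have hxD : x ∈ D := mem_centralizer_singleton_iff.2 hx
  obtain ⟨w, hw, hwx⟩ : r ⟨x, hxD⟩ ∈ (commutator D).map r := by rw [h1]; trivial
  have h2 : π w = π x := congrArg Subtype.val hwx
  have h3 : (w : E)⁻¹ * x ∈ π.ker := by rw [MonoidHom.mem_ker, map_mul, map_inv, h2, inv_mul_cancel]
  have h4 : (w : E)⁻¹ * g⁻¹ * w * g = 1 := congrArg Subtype.val (hψ hw : ψ w = 1)
  have h5 : (w : E) * g = g * w := by
    have h6 : (w : E) * g = g * w * ((w : E)⁻¹ * g⁻¹ * w * g) := by group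
    rw [h6, h4, mul_one]
  have h6 : x = w * ((w : E)⁻¹ * x) := by group
  rw [h6, mul_assoc, hz _ h3 g, ← mul_assoc, h5, mul_assoc]

theorem perfect_cent {K : Type*} [Group K] (e : K ≃* Spor.Fi22) {a : K} (ha : a ∈ TK e) :
    Group.IsPerfect ↥(centralizer ({a} : Set K)) := by
  obtain ⟨b, hb, hne, hab⟩ := exists_nbr e ha
  obtain ⟨R, F⟩ := KFacts.FiTT.facts_of_iso e ha hb hne hab
  exact F.quasi.1

theorem nb_five {K : Type u} [Group K] [Finite K] (e : K ≃* Spor.Fi22) {m : ℕ} (hm : ¬ 5 ∣ m) : NB.{u} 5 m K := by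
  have h5 : Fact (Nat.Prime 5) := ⟨by norm_num⟩
  have I := inv_of_iso e
  obtain ⟨u, hu⟩ := exists_prime_orderOf_dvd_card' (G := K) 5 (by rw [I.ctx.card]; norm_num)
  have hu5 : u ^ 5 = 1 := by rw [← hu, pow_orderOf_eq_one]
  have hu1 : u ≠ 1 := by
    rintro rfl
    rw [orderOf_one] at hu
    norm_num at hu
  obtain ⟨f, hf, hS, hcl⟩ := exists_sym I.ctx hu5 hu1
  have hle : f.range ≤ centralizer ({u} : Set K) := by
    rw [← hcl, closure_le]
    intro t ht
    exact mem_centralizer_singleton_iff.2 ht.2.symm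
  have hn : ∀ g ∈ centralizer ({u} : Set K), ∀ p : SporRec.Co3.P5, p.IsSwap →
      ∃ q : SporRec.Co3.P5, q.IsSwap ∧ g * f p * g⁻¹ = f q := fun g hg => norm_hyp I hS g (by
    rw [← H836.Main.centralizer_zpowers] at hg
    exact centralizer_le_normalizer _ hg)
  have hsup := SymFive.sup_eq f hf hle hn
  have hinf := SymFive.inf_bot f hf (centralizer ({u} : Set K))
  have hZ := card_cz I hu5 hu1
  have hQ : centralizer ({u} : Set K) ⊓ centralizer (f.range : Set K) = zpowers u := by
    rw [← hcl, centralizer_closure]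
    symm
    apply eq_of_le_of_card_ge
    · rw [zpowers_le]
      exact ⟨mem_centralizer_singleton_iff.2 rfl, mem_centralizer_iff.2 fun c hc => hc.2.symm⟩
    · rw [hZ, Nat.card_zpowers, hu]
  rw [hQ] at hsup hinf
  have hL : Nat.card f.range = 120 := by
    rw [Nat.card_congr (MonoidHom.ofInjective hf).symm.toEquiv, Nat.card_eq_fintype_card]
    rfl
  refine H35.RIM.nb_of_elt hm hu hsup.symm hinf (by rw [I.ctx.card]; norm_num) ?_
  intro E _ _ π hπ hc _ hcard l _
  let φ₀ : ↥(f.range.comap π) →* f.range :=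
    { toFun := fun y => ⟨π y, y.2⟩
      map_one' := Subtype.ext (map_one π)
      map_mul' := fun y w => Subtype.ext (map_mul π _ _) }
  let φ : ↥(f.range.comap π) →* P5 := (MonoidHom.ofInjective hf).symm.toMonoidHom.comp φ₀
  have hφ₀ : Function.Surjective φ₀ := by
    rintro ⟨y, hy⟩
    obtain ⟨w, rfl⟩ := hπ y
    exact ⟨⟨w, hy⟩, rfl⟩
  have hφ : Function.Surjective φ := (MonoidHom.ofInjective hf).symm.surjective.comp hφ₀
  have hfφ : ∀ y, f (φ y) = π y := by
    intro y
    have h1 : (MonoidHom.ofInjective hf) (φ y) = φ₀ y := (MonoidHom.ofInjective hf).apply_symm_apply _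
    exact congrArg Subtype.val h1
  have hker : ∀ y : ↥(f.range.comap π), y ∈ φ.ker ↔ (y : E) ∈ π.ker := by
    intro y
    rw [MonoidHom.mem_ker, MonoidHom.mem_ker, ← hfφ, map_eq_one_iff f hf]
  let j : φ.ker →* π.ker :=
    { toFun := fun y => ⟨(y : ↥(f.range.comap π)), (hker _).1 y.2⟩
      map_one' := rfl
      map_mul' := fun _ _ => rfl }
  have hj : Function.Injective j := by
    intro y w h
    apply Subtype.ext
    apply Subtype.ext
    exact congrArg (Subtype.val : π.ker → E) h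
  have hkc : ¬ 5 ∣ Nat.card φ.ker := by
    intro h
    exact hm (hcard ▸ h.trans (card_dvd_of_injective j hj))
  obtain ⟨θ, h1, h2, h3⟩ := exists_five φ hφ (by
    intro y hy
    rw [mem_center_iff]
    intro w
    exact Subtype.ext (mem_center_iff.1 (hc ((hker y).1 hy)) w)) hkc (by
    intro g x hg hx
    have h4 : π g ∈ TK e := by
      have h5 : f (Equiv.swap 0 1) ∈ Fx (TK e) u :=
        (hS _).2 ⟨Equiv.swap 0 1, ⟨0, 1, by decide, rfl⟩, rfl⟩
      rw [← hg, hfφ] at h5
      exact h5.1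
    have h6 : π x * π g = π g * π x := by
      rw [← hfφ, ← hfφ, ← map_mul, hx, map_mul]
    exact Subtype.ext (comm_of_perfect hπ hc (perfect_cent e h4) h6)) (l.comp j)
  refine ⟨θ, h1, ?_, ?_⟩
  · intro z hz hz'
    exact h2 ⟨⟨z, hz'⟩, (hker _).2 hz⟩
  · rw [h3, hL]
    have h4 : (120 : ℕ) = 5 ^ 1 * 24 := by norm_num
    rw [h4, Nat.factorization_mul (by norm_num) (by norm_num), Finsupp.add_apply, h5.out.factorization_pow,
      Finsupp.single_eq_same, Nat.factorization_eq_zero_of_not_dvd (by norm_num)]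

/-- **S4816, `Fi₂₂`, `p = 5`** -/
theorem nball_five {K : Type u} [Group K] [Finite K] (h : Spor.IsoFi22 K) : NBall.{u} 5 K := by
  obtain ⟨e⟩ := id h
  exact fun m _ hm => nb_five e hm

end Cfsg.Agent.H488.RIM
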